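/-
Tools for the generation of twisted groups by two elements.
-/
import Cfsg.Agent.Lib.Lie.TwoGen.Main
import Cfsg.Agent.Lib.Lie.Twisted.Tools

set_option autoImplicit false

namespace CfsgLib.Lie.Chev

open Cfsg.Lie (ChevalleyDatum)

namespace TwoGen

/-- the sign of the monomial element of a word on a root -/
def wsign (X : Aux) : List ℕ → ℕ → ℤ
  | [], _ => 1
  | i :: L, r => X.eta i (wp X L r) * wsign X L r

/-- the seed of a generating pair: a full one-parameter class and the monomial element -/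
theorem seed_mem {K : Type*} [Field K] {G : Type*} [Group G] {H : Subgroup G} {h n : G} (X : K → G)
    (hadd : ∀ s t, X (s + t) = X s * X t) {c k : K} (hX : ∀ t, h * X t * h⁻¹ = X (c * t))
    (hk : ∀ t, (n * h * n⁻¹) * X t * (n * h * n⁻¹)⁻¹ = X (k * t)) (hcomm : Commute h (n * h * n⁻¹))
    (hgen : ∀ u : K, u ≠ 0 → ∃ j : ℕ, u = c ^ j) (hc : c ≠ 1) (hk1 : k ≠ 1) (hh : h ∈ H)
    (hb : X 1 * n ∈ H) : (∀ t, X t ∈ H) ∧ n ∈ H := by
  have h0 : X 0 = 1 := by
    have := hadd 0 0
    rw [add_zero] at this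
    exact mul_eq_left.1 this.symm
  have hinv : ∀ t, (X t)⁻¹ = X (-t) := fun t => inv_eq_of_mul_eq_one_right (by rw [← hadd, add_neg_cancel, h0])
  have hy2 : (X 1 * n) * h * (X 1 * n)⁻¹ = X (1 - k) * (n * h * n⁻¹) := by
    have h1 := hk (-1)
    rw [show (X 1 * n) * h * (X 1 * n)⁻¹ = X 1 * ((n * h * n⁻¹) * (X 1)⁻¹ * (n * h * n⁻¹)⁻¹) * (n * h * n⁻¹) by group,
      hinv, h1, ← hadd, mul_neg_one, ← sub_eq_add_neg]
  have hyH := mul_mem (mul_mem hb hh) (inv_mem hb)
  rw [hy2] at hyH
  have hx0 : X ((c - 1) * (1 - k)) ∈ H := by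
    have h1 := mul_mem (mul_mem (mul_mem hh hyH) (inv_mem hh)) (inv_mem hyH)
    have h2 : h * (n * h * n⁻¹) * h⁻¹ = n * h * n⁻¹ := by rw [hcomm.eq, mul_inv_cancel_right]
    rw [show h * (X (1 - k) * (n * h * n⁻¹)) * h⁻¹ * (X (1 - k) * (n * h * n⁻¹))⁻¹ =
      (h * X (1 - k) * h⁻¹) * (h * (n * h * n⁻¹) * h⁻¹) * (n * h * n⁻¹)⁻¹ * (X (1 - k))⁻¹ by group,
      h2, mul_inv_cancel_right, hX, hinv, ← hadd] at h1
    convert h1 using 2
    ring
  generalize hu : (c - 1) * (1 - k) = u at hx0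
  have hu0 : u ≠ 0 := hu ▸ mul_ne_zero (sub_ne_zero.2 hc) (sub_ne_zero.2 (Ne.symm hk1))
  have hall : ∀ t, X t ∈ H := by
    intro t
    by_cases ht : t = 0
    · rw [ht, h0]; exact one_mem _
    obtain ⟨j, hj⟩ := hgen (t / u) (div_ne_zero ht hu0)
    have hpow : ∀ j : ℕ, X (c ^ j * u) ∈ H := by
      intro j
      induction j with
      | zero => simpa using hx0
      | succ j ih =>
        have := mul_mem (mul_mem hh ih) (inv_mem hh)
        rw [hX, ← mul_assoc, ← pow_succ'] at this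
        exact this
    have := hpow j
    rwa [← hj, div_mul_cancel₀ _ hu0] at this
  exact ⟨hall, (Subgroup.mul_mem_cancel_left H (hall 1)).1 hb⟩

/-- powers of a generator of the units, with exponents prime to their order -/
theorem exists_pow_zpow {K : Type*} [Field K] [Fintype K] {g : Kˣ} (hg : ∀ u, u ∈ Subgroup.zpowers g) {e : ℤ}
    (he : Int.gcd e (Fintype.card K - 1 : ℕ) = 1) {u : K} (hu : u ≠ 0) : ∃ j : ℕ, u = ((g : K) ^ e) ^ j := by
  classical
  obtain ⟨i, hi⟩ := Subgroup.mem_zpowers_iff.1 (hg (Units.mk0 u hu))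
  have hb := Int.gcd_eq_gcd_ab e (Fintype.card K - 1 : ℕ)
  rw [he] at hb
  have hN : g ^ ((Fintype.card K - 1 : ℕ) : ℤ) = 1 := by
    rw [zpow_natCast, ← Fintype.card_units]
    exact pow_card_eq_one
  have hmem : Units.mk0 u hu ∈ Submonoid.powers (g ^ e) := by
    rw [(isOfFinOrder_of_finite (g ^ e)).mem_powers_iff_mem_zpowers, Subgroup.mem_zpowers_iff]
    refine ⟨Int.gcdA e (Fintype.card K - 1 : ℕ) * i, ?_⟩
    rw [← hi, ← zpow_mul]
    have e1 : i = e * (Int.gcdA e (Fintype.card K - 1 : ℕ) * i) +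
        ((Fintype.card K - 1 : ℕ) : ℤ) * (Int.gcdB e (Fintype.card K - 1 : ℕ) * i) := by
      calc i = (1 : ℤ) * i := (one_mul i).symm
        _ = _ := by rw [show (1 : ℤ) = ((1 : ℕ) : ℤ) from rfl, hb]; ring
    conv_rhs => rw [e1, zpow_add, zpow_mul g (((Fintype.card K - 1 : ℕ)) : ℤ), hN, one_zpow, mul_one]
  obtain ⟨j, hj⟩ := hmem
  refine ⟨j, ?_⟩
  have := congrArg Units.val hj
  simp only [Units.val_pow_eq_pow_val, Units.val_zpow_eq_zpow_val, Units.val_mk0] at this
  exact this.symm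

/-- a power of a generator is trivial only for multiples of the order -/
theorem zpow_ne_one {K : Type*} [Field K] [Fintype K] {g : Kˣ} (hg : ∀ u, u ∈ Subgroup.zpowers g) {e : ℤ}
    (he : ¬ ((Fintype.card K - 1 : ℕ) : ℤ) ∣ e) : (g : K) ^ e ≠ 1 := by
  classical
  intro h
  apply he
  have h' : g ^ e = 1 := Units.ext (by rwa [Units.val_zpow_eq_zpow_val])
  rw [← Fintype.card_units, ← orderOf_eq_card_of_forall_mem_zpowers hg |>.trans Nat.card_eq_fintype_card]
  exact orderOf_dvd_iff_zpow_eq_one.2 h'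

/-- splitting a product of commuting elements of coprime orders -/
theorem pow_split {G : Type*} [Group G] {H : Subgroup G} {h l : G} (hc : Commute h l) {M : ℕ} (hh : h ^ M = 1)
    (ha : h * l ∈ H) : l ^ M ∈ H := by
  have := pow_mem ha M
  rwa [hc.mul_pow, hh, one_mul] at this

/-- closure of a membership under a scaling -/
theorem scale_mem {K : Type*} [Monoid K] {G : Type*} [Group G] {H : Subgroup G} {h : G} (hh : h ∈ H) (X : K → G)
    {ν : K} (hX : ∀ t, h * X t * h⁻¹ = X (ν * t)) {u : K} (hu : X u ∈ H) : ∀ j : ℕ, X (ν ^ j * u) ∈ H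
  | 0 => by rwa [pow_zero, one_mul]
  | j + 1 => by
    rw [pow_succ', mul_assoc, ← hX]
    exact mul_mem (mul_mem hh (scale_mem hh X hX hu j)) (inv_mem hh)

/-- transfer of a generating pair -/
theorem exists_two_gen {G : Type*} [Group G] {S T : Subgroup G} (hST : S ≤ T) {a b : ↥T}
    (ha : a ∈ S.subgroupOf T) (hb : b ∈ S.subgroupOf T)
    (hgen : S.subgroupOf T ≤ Subgroup.closure ({a, b} : Set ↥T)) :
    ∃ x y : ↥S, Subgroup.closure ({x, y} : Set ↥S) = ⊤ := by
  refine ⟨⟨(a : G), ha⟩, ⟨(b : G), hb⟩, eq_top_iff.2 fun z _ => ?_⟩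
  have hz : (⟨(z : G), hST z.2⟩ : ↥T) ∈ S.subgroupOf T := z.2
  have h2 := Subgroup.mem_map_of_mem T.subtype (hgen hz)
  rw [MonoidHom.map_closure] at h2
  refine (Subgroup.mem_map_iff_mem (f := S.subtype) S.subtype_injective).1 ?_
  rw [MonoidHom.map_closure]
  simpa [Set.image_insert_eq, Set.image_singleton] using h2

end TwoGen

open TwoGen

namespace Rel

variable {D : ChevalleyDatum} {X : Aux} {F : Type*} [Field F] {G : Type*} [Group G] (R : Rel D X F G)
include R

/-- monomial action of a word, with signs -/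
theorem nWord_conj_sign {word : List ℕ} (hw : ∀ i ∈ word, i < D.rank) {r : ℕ} (hr : r < D.nroots) (t : F) :
    R.nWord word * R.xe r t * (R.nWord word)⁻¹ = R.xe (wp X word r) ((wsign X word r : F) * t) := by
  induction word generalizing t with
  | nil => simp [nWord, wp, wsign]
  | cons i L ih =>
    have hi : i < D.rank := hw i (by simp)
    have hL : ∀ j ∈ L, j < D.rank := fun j hj => hw j (by simp [hj])
    have h1 := R.nconj i (wp X L r) 1 ((wsign X L r : F) * t) hi (R.wp_lt hL hr) one_ne_zero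
    rw [one_zpow, mul_one, ← mul_assoc (X.eta i (wp X L r) : F), ← Int.cast_mul] at h1
    rw [show R.nWord (i :: L) = R.ne (D.simple i) 1 * R.nWord L by simp [nWord],
      show R.ne (D.simple i) 1 * R.nWord L * R.xe r t * (R.ne (D.simple i) 1 * R.nWord L)⁻¹ =
      R.ne (D.simple i) 1 * (R.nWord L * R.xe r t * (R.nWord L)⁻¹) * (R.ne (D.simple i) 1)⁻¹ by group, ih hL t,
      show R.ne (D.simple i) 1 * R.xe (wp X L r) ((wsign X L r : F) * t) = _ from h1, mul_inv_cancel_right]
    rfl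

/-- repeated words give powers -/
theorem nWord_replicate (word : List ℕ) (k : ℕ) :
    R.nWord (List.replicate k word).flatten = R.nWord word ^ k := by
  induction k with
  | zero => simp [nWord]
  | succ k ih =>
    rw [List.replicate_succ, List.flatten_cons, pow_succ', ← ih]
    simp [nWord, List.prod_append]

/-- the torus element of a tuple acts by characters -/
theorem torusHom_conj (c : Fin D.rank → Fˣ) (r : Fin D.nroots) (t : F) :
    ((R.torusHom c : R.HS) : G) * R.xe r t * ((R.torusHom c : R.HS) : G)⁻¹ =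
      R.xe r (((∏ i : Fin D.rank, c i ^ D.cartan i r : Fˣ) : F) * t) := by
  classical
  let P : Submonoid (Fin D.rank → Fˣ) :=
    { carrier := {c | ∀ t : F, ((R.torusHom c : R.HS) : G) * R.xe r t * ((R.torusHom c : R.HS) : G)⁻¹ =
        R.xe r (((∏ i : Fin D.rank, c i ^ D.cartan i r : Fˣ) : F) * t)}
      one_mem' := fun t => by simp
      mul_mem' := fun {a b} ha hb t => by
        rw [map_mul, Subgroup.coe_mul,
          show ∀ x y z : G, x * y * z * (x * y)⁻¹ = x * (y * z * y⁻¹) * x⁻¹ from fun x y z => by group,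
          hb, ha, ← mul_assoc, ← Units.val_mul, ← Finset.prod_mul_distrib]
        simp only [Pi.mul_apply, mul_zpow] }
  suffices key : ∀ i u, Pi.mulSingle i u ∈ P by
    have : ∏ i, Pi.mulSingle i (c i) ∈ P := P.prod_mem fun i _ => key i (c i)
    rw [Finset.univ_prod_mulSingle] at this
    exact this t
  intro i u t
  rw [R.torusHom_single]
  have h := (R.isMon_he_simple i u.ne_zero r).2.2.2 t
  rw [Equiv.Perm.one_apply] at h
  rw [Finset.prod_eq_single i (fun j _ hj => by rw [Pi.mulSingle_eq_of_ne hj, one_zpow]) (by simp),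
    Pi.mulSingle_eq_same, Units.val_zpow_eq_zpow_val]
  exact h

/-- a monomial element of a word normalises the torus -/
theorem nWord_HS {word : List ℕ} (hw : ∀ i ∈ word, i < D.rank) {h : G} (hh : h ∈ R.HS) :
    R.nWord word * h * (R.nWord word)⁻¹ ∈ R.HS := by
  have hm : R.nWord word ∈ R.NS := list_prod_mem fun z hz => by
    obtain ⟨i, hi, rfl⟩ := List.mem_map.1 hz
    exact (le_sup_right : R.Nw ≤ R.NS) (R.ne_mem_Nw ⟨i, hw i hi⟩)
  exact (Subgroup.mem_normalizer_iff.1 (R.NS_le_normalizer_HS hm) h).1 hh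

end Rel

end CfsgLib.Lie.Chev
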