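/-
The triality twisted groups are generated by two elements.

The pair is `h * x₂₃(1)` and `n * T(1)`: here `h` is a torus element of full order, `n` the monomial element of a
Coxeter element of the twisted Weyl group and `T` the class of the negative short simple root.
-/
import Cfsg.Agent.Lib.Lie.Twisted.TwoGen.Basic
import Cfsg.Agent.Lib.Lie.Twisted.D4Perfect

set_option autoImplicit false

namespace CfsgLib.Lie.Chev.TwGroups

open Cfsg.Lie
open TwoGen (wsign wp)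

/-- the Coxeter word -/
def coxD4 : List ℕ := [1, 0, 2, 3]

/-- its powers -/
def coxD4pow (k : ℕ) : List ℕ := (List.replicate k coxD4).flatten

theorem coxD4_lt (k : ℕ) : ∀ i ∈ coxD4pow k, i < chevD4.rank := by
  intro i hi
  obtain ⟨l, hl, hil⟩ := List.mem_flatten.1 hi
  rw [List.eq_of_mem_replicate hl] at hil
  have h : ∀ j ∈ coxD4, j < chevD4.rank := by decide +kernel
  exact h i hil

theorem moveD4 :
    ((wp auxD4 (coxD4pow 1) 5, wsign auxD4 (coxD4pow 1) 5) = (19, -1) ∧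
      (wp auxD4 (coxD4pow 1) 10, wsign auxD4 (coxD4pow 1) 10) = (16, 1) ∧
      (wp auxD4 (coxD4pow 1) 11, wsign auxD4 (coxD4pow 1) 11) = (15, 1)) ∧
    ((wp auxD4 (coxD4pow 3) 5, wsign auxD4 (coxD4pow 3) 5) = (18, -1) ∧
      (wp auxD4 (coxD4pow 3) 10, wsign auxD4 (coxD4pow 3) 10) = (13, -1) ∧
      (wp auxD4 (coxD4pow 3) 11, wsign auxD4 (coxD4pow 3) 11) = (12, -1)) ∧
    ((wp auxD4 (coxD4pow 2) 23, wsign auxD4 (coxD4pow 2) 23) = (9, 1) ∧
      (wp auxD4 (coxD4pow 5) 23, wsign auxD4 (coxD4pow 5) 23) = (14, -1)) := by decide +kernel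

theorem charD4 :
    ([5, 10, 11, 19, 16, 15, 9, 14, 23].map fun r =>
      [chevD4.cartan 0 r, chevD4.cartan 2 r, chevD4.cartan 3 r]) =
    [[-2, 0, 0], [0, -2, 0], [0, 0, -2], [1, -1, -1], [-1, 1, -1], [-1, -1, 1], [1, 1, 1], [-1, -1, -1],
      [0, 0, 0]] ∧
    (∀ r ∈ [5, 10, 11, 19, 16, 15, 9, 14, 23], r < chevD4.nroots) := by decide +kernel

variable {K : Type*} [Field K] [Fintype K] {q : ℕ}

theorem D4_two_gen (hq : IsPrimePow q) (hK : Fintype.card K = q ^ 3) :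
    ∃ a b : ↥(twistedD4 K q), Subgroup.closure ({a, b} : Set ↥(twistedD4 K q)) = ⊤ := by
  classical
  obtain ⟨g, hg⟩ := IsCyclic.exists_generator (α := Kˣ)
  obtain ⟨R, hR⟩ : ∃ R : Rel chevD4 auxD4 K ↥(chevD4.group K), R = chevRel certD4 K := ⟨_, rfl⟩
  have hxe : ∀ r t, R.xe r t = xG certD4 K r t := fun r t => by rw [hR]; rfl
  obtain ⟨P, hP⟩ : ∃ P, P = (twistedD4 K q).subgroupOf (chevD4.group K) := ⟨_, rfl⟩
  obtain ⟨n, hn⟩ : ∃ n, n = R.nWord coxD4 := ⟨_, rfl⟩
  have hpow : ∀ k r (t : K), r < chevD4.nroots → n ^ k * xG certD4 K r t * (n ^ k)⁻¹ =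
      xG certD4 K (wp auxD4 (coxD4pow k) r) ((wsign auxD4 (coxD4pow k) r : K) * t) := by
    intro k r t hr
    rw [← hxe, ← hxe, hn, ← R.nWord_replicate]
    exact R.nWord_conj_sign (coxD4_lt k) hr t
  obtain ⟨⟨a19, a16, a15⟩, ⟨b18, b13, b12⟩, ⟨c9, c14⟩⟩ := moveD4
  obtain ⟨hch, hlt⟩ := charD4
  simp only [List.map_cons, List.map_nil, List.cons.injEq, and_true] at hch
  simp only [List.forall_mem_cons] at hlt
  obtain ⟨l5, l10, l11, l19, l16, l15, l9, l14, l23, -⟩ := hlt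
  simp only [Prod.mk.injEq] at a19 a16 a15 b18 b13 b12 c9 c14
  -- the torus element
  obtain ⟨h, hh⟩ : ∃ h, h = psiD4 K q (1, g) := ⟨_, rfl⟩
  have hhP : h ∈ P := by rw [hh, hP]; exact (Subgroup.mem_inf.1 (psiD4_mem hq hK _)).1
  have hhS : h ∈ R.HS := by rw [hh, hR]; exact (Subgroup.mem_inf.1 (psiD4_mem hq hK _)).2
  have hact : ∀ r (t : K), r < chevD4.nroots → h * xG certD4 K r t * h⁻¹ = xG certD4 K r
      ((g : K) ^ chevD4.cartan 0 r * ((g : K) ^ q) ^ chevD4.cartan 2 r *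
        (((g : K) ^ q) ^ q) ^ chevD4.cartan 3 r * t) := by
    intro r t hr
    rw [hh, psiD4_apply]
    refine ((chevRel certD4 K).torusHom_conj _ ⟨r, hr⟩ t).trans ?_
    refine congrArg (fun z => xG certD4 K r (z * t)) ?_
    rw [Fin.prod_univ_def, show (List.finRange chevD4.rank).map (fun i : Fin chevD4.rank =>
        tupD4 g ((1 : fixU K q) : Kˣ) (g ^ q) ((g ^ q) ^ q) i ^ chevD4.cartan i r) =
        (List.range 4).map (fun i => [g, ((1 : fixU K q) : Kˣ), g ^ q, (g ^ q) ^ q].getD i 1 ^ chevD4.cartan i r) by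
      rw [← List.map_coe_finRange_eq_range, List.map_map]; rfl]
    simp [List.range_succ, Units.val_zpow_eq_zpow_val, mul_assoc]
  -- the classes
  obtain ⟨T0, hT0⟩ : ∃ T0 : K → ↥(chevD4.group K), T0 = fun t =>
      xG certD4 K 5 t * (xG certD4 K 10 (t ^ q) * xG certD4 K 11 ((t ^ q) ^ q)) := ⟨_, rfl⟩
  have hT0P : ∀ t, T0 t ∈ P := fun t => by
    rw [hT0, hP]; exact wordD4_triple_mem (a := 5) (b := 10) (c := 11) (by decide) t
  have hT0add : ∀ s t, T0 (s + t) = T0 s * T0 t := by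
    obtain ⟨-, ⟨e1, e2, e3⟩, -⟩ := commD4
    intro s t
    have psum : ∀ x y : K, (x + y) ^ q = x ^ q + y ^ q := fun x y => by simp only [← frD4_apply hq hK, map_add]
    simp only [hT0, psum, ← xG_pow_mul]
    simp only [mul_assoc]
    rw [(xG_commute certD4 e1 t (s ^ q)).left_comm, (xG_commute certD4 e3 (t ^ q) ((s ^ q) ^ q)).left_comm,
      (xG_commute certD4 e2 t ((s ^ q) ^ q)).left_comm]
  obtain ⟨X, hXdef⟩ : ∃ X : K → ↥(chevD4.group K), X = fun t => n * T0 t * n⁻¹ := ⟨_, rfl⟩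
  have conj3 : ∀ (m A B C : ↥(chevD4.group K)), m * (A * (B * C)) * m⁻¹ = (m * A * m⁻¹) * ((m * B * m⁻¹) *
      (m * C * m⁻¹)) := fun m A B C => by group
  have hXeq : ∀ t, X t = xG certD4 K 19 (-t) * (xG certD4 K 16 (t ^ q) * xG certD4 K 15 ((t ^ q) ^ q)) := by
    intro t
    simp only [hXdef, hT0]
    rw [conj3, ← pow_one n, hpow 1 5 _ l5, hpow 1 10 _ l10, hpow 1 11 _ l11, a19.1, a19.2, a16.1, a16.2, a15.1, a15.2]
    push_cast
    simp only [neg_one_mul, one_mul]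
  obtain ⟨k, hk⟩ : ∃ k : K, k = (g : K) ^ (-2 : ℤ) := ⟨_, rfl⟩
  have hkT : ∀ t, h * T0 t * h⁻¹ = T0 (k * t) := by
    intro t
    simp only [hT0]
    rw [conj3, hact 5 _ l5, hact 10 _ l10, hact 11 _ l11]
    simp only [hch, zpow_zero, one_mul, mul_one, hk, mul_pow]
    simp only [zpow_neg, zpow_ofNat, inv_pow]
    simp only [pow_right_comm _ 2 q]
  obtain ⟨c, hc⟩ : ∃ c : K, c = (g : K) * ((g : K) ^ q)⁻¹ * (((g : K) ^ q) ^ q)⁻¹ := ⟨_, rfl⟩
  have hX : ∀ t, h * X t * h⁻¹ = X (c * t) := by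
    intro t
    rw [hXeq, hXeq, conj3, hact 19 _ l19, hact 16 _ l16, hact 15 _ l15]
    simp only [hch, zpow_neg, zpow_one, hc, mul_pow, inv_pow, pow_qqq hK, mul_neg]
    congr 3 <;> ring
  have hM : Fintype.card K - 1 = q ^ 3 - 1 := by rw [hK]
  have h8 : 8 ≤ q ^ 3 := Nat.pow_le_pow_left hq.two_le 3
  have g0 : (g : K) ≠ 0 := g.ne_zero
  have hcz : c = (g : K) ^ ((1 : ℤ) - q - q * q) := by
    rw [hc, zpow_sub₀ g0, zpow_sub₀ g0, zpow_one, zpow_natCast, ← Nat.cast_mul, zpow_natCast, ← pow_mul,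
      div_eq_mul_inv, div_eq_mul_inv]
  have he : Int.gcd ((1 : ℤ) - q - q * q) (Fintype.card K - 1 : ℕ) = 1 := by
    rw [hM]
    push_cast [Nat.one_le_pow _ q hq.pos]
    obtain ⟨w, hw⟩ := Nat.even_mul_succ_self q
    have hw' : (q : ℤ) * ((q : ℤ) + 1) = 2 * w := by
      have : q * (q + 1) = 2 * w := by omega
      exact_mod_cast this
    rw [← Int.isCoprime_iff_gcd_eq_one]
    exact ⟨1 - w * q * (q + 1), -(w : ℤ) * (q + 2), by linear_combination (-1 : ℤ) * hw'⟩
  have hc1 : c ≠ 1 := by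
    rw [hcz]
    refine TwoGen.zpow_ne_one hg fun hd => ?_
    have := Int.dvd_coe_gcd hd (dvd_refl _)
    rw [he] at this
    have h2 := Nat.le_of_dvd one_pos (Int.natCast_dvd_natCast.1 this)
    omega
  have hk1 : k ≠ 1 := by
    rw [hk]
    refine TwoGen.zpow_ne_one hg fun hd => ?_
    have h2 := Int.le_of_dvd (by norm_num : (0 : ℤ) < 2) (Int.dvd_neg.1 hd)
    omega
  -- the two generators
  have hl : xG certD4 K 23 (1 : K) ∈ P := by
    obtain ⟨-, -, ⟨-, w23, -⟩, hm, -⟩ := twAtD4'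
    rw [hP]
    refine (twD4 hq hK).mem_P1_of_fixed_UP (xG_pos_mem certD4 (hm 23 (by decide)).1 (hm 23 (by decide)).2 _) ?_
    show σD4 hq hK _ = _
    rw [σD4_simple hq hK w23, one_pow]
  have hnP : n ∈ P := by
    obtain ⟨-, ⟨e1, e2, e3⟩, ⟨f1, f1'⟩, ⟨f2, f2'⟩, ⟨f3, f3'⟩⟩ := commD4
    obtain ⟨⟨c1, c2, c3⟩, -⟩ := commD4
    obtain ⟨⟨n18, n13, n12, n14⟩, -, -, -, ⟨s0, s1, s2, s3⟩, -⟩ := negD4
    rw [hn, hR, hP]
    simp only [Rel.nWord, coxD4, List.map_cons, List.map_nil, List.prod_cons, List.prod_nil, mul_one, s0, s1, s2, s3]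
    refine mul_mem ?_ ?_
    · show xG certD4 K 14 1 * xG certD4 K (chevD4.neg 14) (-1⁻¹) * xG certD4 K 14 1 ∈ _
      rw [n14, inv_one]
      exact mul_mem (mul_mem (wordD4_single_mem (r := 14) (by decide) (one_pow q))
        (wordD4_single_mem (r := 9) (by decide) (by rw [neg_pow_D4 hq hK, one_pow])))
        (wordD4_single_mem (r := 14) (by decide) (one_pow q))
    · rw [← ne_pair certD4 c3 (by rw [n12]; exact f3) (by rw [n13]; exact f3'), n13, n12]
      show xG certD4 K 18 1 * xG certD4 K (chevD4.neg 18) (-1⁻¹) * xG certD4 K 18 1 * _ ∈ _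
      rw [n18, ← sandwich_split ((xG_commute certD4 f1' _ _).mul_right (xG_commute certD4 f2' _ _)).symm
        ((xG_commute certD4 c1 _ _).mul_right (xG_commute certD4 c2 _ _)).symm
        ((xG_commute certD4 f1 _ _).mul_right (xG_commute certD4 f2 _ _)).symm, inv_one]
      have h1 := wordD4_triple_mem (K := K) (q := q) (a := 18) (b := 13) (c := 12) (by decide) 1
      have h2 := wordD4_triple_mem (K := K) (q := q) (a := 5) (b := 10) (c := 11) (by decide) (-1)
      simp only [neg_pow_D4 hq hK, one_pow] at h1 h2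
      exact mul_mem (mul_mem h1 h2) h1
  refine TwoGen.exists_two_gen twD4_le (a := h * xG certD4 K 23 1) (b := n * T0 1) (hP ▸ mul_mem hhP hl)
    (hP ▸ mul_mem hnP (hT0P 1)) ?_
  obtain ⟨H, hH⟩ : ∃ H : Subgroup ↥(chevD4.group K),
      H = Subgroup.closure {h * xG certD4 K 23 1, n * T0 1} := ⟨_, rfl⟩
  rw [← hH]
  have haH : h * xG certD4 K 23 1 ∈ H := hH ▸ Subgroup.subset_closure (Set.mem_insert _ _)
  have hbH : n * T0 1 ∈ H := hH ▸ Subgroup.subset_closure (Set.mem_insert_of_mem _ (Set.mem_singleton _))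
  -- the splitting
  have hcomm : Commute h (xG certD4 K 23 (1 : K)) := by
    have := hact 23 1 l23
    simp only [hch, zpow_zero, one_mul] at this
    exact mul_inv_eq_iff_eq_mul.1 this
  have hM1 : ((Fintype.card K - 1 : ℕ) : K) = -1 := by
    rw [Nat.cast_sub Fintype.card_pos, FiniteField.cast_card_eq_zero, Nat.cast_one, zero_sub]
  have hh1 : h ^ (Fintype.card K - 1) = 1 := by
    rw [hh, ← map_pow, Prod.pow_mk, one_pow, ← Fintype.card_units, pow_card_eq_one]
    exact map_one _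
  have hxpow : ∀ (r N : ℕ), xG certD4 K r (1 : K) ^ N = xG certD4 K r (N : K) := by
    intro r N
    induction N with
    | zero => rw [pow_zero, Nat.cast_zero]; exact ((chevRel certD4 K).xe_zero r).symm
    | succ N ih => rw [pow_succ, ih, xG_pow_mul, Nat.cast_succ]
  have hneg : ∀ (r : ℕ) (t : K), xG certD4 K r (-t) = (xG certD4 K r t)⁻¹ := (chevRel certD4 K).xe_neg
  have h23 : xG certD4 K 23 (1 : K) ∈ H := by
    have := TwoGen.pow_split hcomm hh1 haH
    rw [hxpow, hM1, hneg, inv_mem_iff] at this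
    exact this
  have hhH : h ∈ H := (Subgroup.mul_mem_cancel_right H h23).1 haH
  have hseed : (∀ t, X t ∈ H) ∧ n ∈ H := by
    refine TwoGen.seed_mem X (fun s t => ?_) hX (k := k) (fun t => ?_) ?_ ?_ hc1 hk1 hhH ?_
    · simp only [hXdef, hT0add]; group
    · simp only [hXdef, ← hkT]; group
    · refine R.HS_isMulCommutative hhS ?_
      rw [hn]
      exact R.nWord_HS (fun i hi => coxD4_lt 1 i (by simpa [coxD4pow] using hi)) hhS
    · intro u hu
      rw [hcz]
      exact TwoGen.exists_pow_zpow hg he hu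
    · rwa [hXdef, show n * T0 1 * n⁻¹ * n = n * T0 1 by group]
  obtain ⟨hXH, hnH⟩ := hseed
  have hTH : ∀ t, T0 t ∈ H := fun t => by
    have := mul_mem (mul_mem (inv_mem hnH) (hXH t)) hnH
    rwa [hXdef, show n⁻¹ * (n * T0 t * n⁻¹) * n = T0 t by group] at this
  have hpos : ∀ t : K, xG certD4 K 18 t * (xG certD4 K 13 (t ^ q) * xG certD4 K 12 ((t ^ q) ^ q)) ∈ H := by
    intro t
    have := mul_mem (mul_mem (pow_mem hnH 3) (hTH (-t))) (inv_mem (pow_mem hnH 3))
    simp only [hT0] at this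
    rw [conj3, hpow 3 5 _ l5, hpow 3 10 _ l10, hpow 3 11 _ l11, b18.1, b18.2, b13.1, b13.2, b12.1, b12.2] at this
    simpa [neg_pow_D4 hq hK] using this
  have h9 : xG certD4 K 9 (1 : K) ∈ H := by
    have := mul_mem (mul_mem (pow_mem hnH 2) h23) (inv_mem (pow_mem hnH 2))
    rw [hpow 2 23 _ l23, c9.1, c9.2] at this
    simpa using this
  have h14 : xG certD4 K 14 (1 : K) ∈ H := by
    have := mul_mem (mul_mem (pow_mem hnH 5) h23) (inv_mem (pow_mem hnH 5))
    rw [hpow 5 23 _ l23, c14.1, c14.2] at this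
    push_cast at this
    rw [neg_one_mul, hneg, inv_mem_iff] at this
    exact this
  obtain ⟨ν, hν⟩ : ∃ ν : K, ν = (g : K) * (g : K) ^ q * ((g : K) ^ q) ^ q := ⟨_, rfl⟩
  have hnorm : ∀ t : K, t ≠ 0 → t ^ q = t → ∃ j : ℕ, t = ν ^ j := by
    intro t ht htq
    obtain ⟨j, hj⟩ : Units.mk0 t ht ∈ Submonoid.powers g :=
      (isOfFinOrder_of_finite g).mem_powers_iff_mem_zpowers.2 (hg _)
    have hord : orderOf g = q ^ 3 - 1 := by
      rw [orderOf_eq_card_of_forall_mem_zpowers hg, Nat.card_eq_fintype_card, Fintype.card_units, hK]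
    have h1 : Units.mk0 t ht ^ q = Units.mk0 t ht := Units.ext (by simpa using htq)
    have h2 : g ^ (j * (q - 1)) = 1 := by
      rw [pow_mul, show g ^ j = Units.mk0 t ht from hj]
      have h3 : Units.mk0 t ht ^ (q - 1) * Units.mk0 t ht = Units.mk0 t ht := by
        rw [← pow_succ, Nat.sub_add_cancel hq.pos, h1]
      exact mul_eq_right.1 h3
    have h4 := orderOf_dvd_of_pow_eq_one h2
    rw [hord] at h4
    obtain ⟨p, rfl⟩ : ∃ p, q = p + 1 := ⟨q - 1, by have := hq.pos; omega⟩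
    have h5 : (p + 1) ^ 3 - 1 = (1 + (p + 1) + (p + 1) * (p + 1)) * p :=
      Nat.sub_eq_of_eq_add (by ring)
    rw [h5, Nat.add_sub_cancel] at h4
    have hp : 0 < p := by have := hq.one_lt; omega
    obtain ⟨m, rfl⟩ := Nat.dvd_of_mul_dvd_mul_right hp h4
    refine ⟨m, ?_⟩
    have := congrArg Units.val (show g ^ ((1 + (p + 1) + (p + 1) * (p + 1)) * m) = Units.mk0 t ht from hj)
    rw [Units.val_pow_eq_pow_val, Units.val_mk0, pow_mul, pow_add, pow_add, pow_one, pow_mul] at this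
    rw [hν, this]
  have full : ∀ t : K, t ^ q = t → xG certD4 K 9 t ∈ H ∧ xG certD4 K 14 t ∈ H := by
    intro t htq
    by_cases ht : t = 0
    · rw [ht]
      have h0 : ∀ r, xG certD4 K r (0 : K) = 1 := (chevRel certD4 K).xe_zero
      rw [h0, h0]
      exact ⟨one_mem H, one_mem H⟩
    constructor
    · obtain ⟨j, hj⟩ := hnorm t ht htq
      have := TwoGen.scale_mem hhH (fun s => xG certD4 K 9 s) (ν := ν)
        (fun s => by rw [hact 9 _ l9]; simp only [hch, zpow_one, hν]) h9 j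
      rwa [mul_one, ← hj] at this
    · obtain ⟨j, hj⟩ := hnorm t⁻¹ (inv_ne_zero ht) (by rw [inv_pow, htq])
      have := TwoGen.scale_mem hhH (fun s => xG certD4 K 14 s) (ν := ν⁻¹)
        (fun s => by rw [hact 14 _ l14]; simp only [hch, zpow_neg, zpow_one, hν, mul_inv]) h14 j
      rwa [mul_one, inv_pow, ← hj, inv_inv] at this
  intro z hz
  rw [twistedD4, genSubgroup_subgroupOf certD4] at hz
  refine (Subgroup.closure_le _).2 ?_ hz
  rintro _ ⟨w, hw, rfl⟩
  rcases hw with ⟨t, ht, r, hr, rfl⟩ | ⟨t, rs, hrs, rfl⟩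
  · simp only [List.mem_cons, List.not_mem_nil, or_false, d4p2, d4m2] at hr
    simp only [wordG_cons, wordG_nil, mul_one]
    rcases hr with rfl | rfl
    · exact (full t ht).2
    · exact (full t ht).1
  · simp only [List.mem_cons, List.not_mem_nil, or_false, d4p1, d4p3, d4p4, d4m1, d4m3, d4m4] at hrs
    rw [sq, pow_mul]
    simp only [wordG_cons, wordG_nil, mul_one]
    rcases hrs with rfl | rfl
    · exact hpos t
    · have := hTH t
      rwa [hT0] at this

end CfsgLib.Lie.Chev.TwGroups
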