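/-
The twisted groups of type E6 are generated by two elements.

The pair is `h * x₄₆(1)` and `A(1) * n`: here `h` is the torus element of a generator of the units on the outer pair of
simple roots, `n` the monomial element of a Coxeter element of the twisted Weyl group and `A` the class of the inner
pair. The outer pair is reached by a commutator of `A` with a conjugate of `A(1)` under a power of `n`.
-/
import Cfsg.Agent.Lib.Lie.Twisted.TwoGen.Basic
import Cfsg.Agent.Lib.Lie.Twisted.E6Torus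
import Cfsg.Agent.Lib.Lie.Twisted.E6Perfect

set_option autoImplicit false

namespace CfsgLib.Lie.Chev.TwGroups

open Cfsg.Lie
open TwoGen (wsign wp)

/-- the Coxeter word -/
def coxE6 : List ℕ := [1, 3, 0, 5, 2, 4]

/-- its powers -/
def coxE6pow (k : ℕ) : List ℕ := (List.replicate k coxE6).flatten

theorem coxE6_lt (k : ℕ) : ∀ i ∈ coxE6pow k, i < chevE6.rank := by
  intro i hi
  obtain ⟨l, hl, hil⟩ := List.mem_flatten.1 hi
  rw [List.eq_of_mem_replicate hl] at hil
  have h : ∀ j ∈ coxE6, j < chevE6.rank := by decide +kernel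
  exact h i hil

theorem moveE6 :
    ([(1, 59), (1, 45), (6, 42), (6, 37), (5, 42), (5, 37)].map fun x : ℕ × ℕ =>
      (wp auxE6 (coxE6pow x.1) x.2, wsign auxE6 (coxE6pow x.1) x.2)) =
    [(42, 1), (37, -1), (34, -1), (29, -1), (26, 1), (12, -1)] ∧
    ([(1, 20), (2, 20), (7, 20), (8, 20)].map fun x : ℕ × ℕ =>
      (wp auxE6 (coxE6pow x.1) x.2, wsign auxE6 (coxE6pow x.1) x.2)) = [(46, 1), (39, 1), (25, -1), (32, -1)] ∧
    ([(4, 30), (4, 13), (6, 36), (6, 56)].map fun x : ℕ × ℕ =>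
      (wp auxE6 (coxE6pow x.1) x.2, wsign auxE6 (coxE6pow x.1) x.2)) = [(36, 1), (56, 1), (15, -1), (35, -1)] := by
  decide +kernel

theorem charE6 :
    ([59, 45, 42, 37, 46, 20].map fun r => [chevE6.cartan 0 r, chevE6.cartan 5 r]) =
    [[1, -1], [-1, 1], [-1, 0], [0, -1], [0, 0], [1, 1]] ∧
    (∀ r ∈ [59, 45, 42, 37, 46, 20, 30, 13, 36, 56, 26, 12], r < chevE6.nroots) := by decide +kernel

theorem genTermsE6 :
    (chkOneTerm chevE6 37 12 13 (-1) = true ∧ chkOneTerm chevE6 42 26 30 1 = true) ∧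
    (chkNoTerms chevE6 12 42 = true ∧ chkNoTerms chevE6 30 37 = true ∧ chkNoTerms chevE6 30 12 = true ∧
      chkNoTerms chevE6 26 37 = true) ∧
    (chkNoTerms chevE6 59 45 = true ∧ chkNoTerms chevE6 36 56 = true ∧ chkNoTerms chevE6 34 29 = true) := by
  decide +kernel

variable {K : Type*} [Field K] [Fintype K] {q : ℕ}

theorem E6_two_gen (hq : IsPrimePow q) (hK : Fintype.card K = q ^ 2) :
    ∃ a b : ↥(twistedE6 K q), Subgroup.closure ({a, b} : Set ↥(twistedE6 K q)) = ⊤ := by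
  classical
  obtain ⟨g, hg⟩ := IsCyclic.exists_generator (α := Kˣ)
  obtain ⟨R, hR⟩ : ∃ R : Rel chevE6 auxE6 K ↥(chevE6.group K), R = chevRel certE6 K := ⟨_, rfl⟩
  have hxe : ∀ r t, R.xe r t = xG certE6 K r t := fun r t => by rw [hR]; rfl
  obtain ⟨P, hP⟩ : ∃ P, P = (twistedE6 K q).subgroupOf (chevE6.group K) := ⟨_, rfl⟩
  obtain ⟨n, hn⟩ : ∃ n, n = R.nWord coxE6 := ⟨_, rfl⟩
  have hpow : ∀ k r (t : K), r < chevE6.nroots → n ^ k * xG certE6 K r t * (n ^ k)⁻¹ =
      xG certE6 K (wp auxE6 (coxE6pow k) r) ((wsign auxE6 (coxE6pow k) r : K) * t) := by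
    intro k r t hr
    rw [← hxe, ← hxe, hn, ← R.nWord_replicate]
    exact R.nWord_conj_sign (coxE6_lt k) hr t
  obtain ⟨mA, mL, mS⟩ := moveE6
  simp only [List.map_cons, List.map_nil, List.cons.injEq, and_true, Prod.mk.injEq] at mA mL mS
  obtain ⟨⟨a42, a42'⟩, ⟨a37, a37'⟩, ⟨a34, a34'⟩, ⟨a29, a29'⟩, ⟨a26, a26'⟩, a12, a12'⟩ := mA
  obtain ⟨⟨b46, b46'⟩, ⟨b39, b39'⟩, ⟨b25, b25'⟩, b32, b32'⟩ := mL
  obtain ⟨⟨d36, d36'⟩, ⟨d56, d56'⟩, ⟨d15, d15'⟩, d35, d35'⟩ := mS
  obtain ⟨hch, hlt⟩ := charE6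
  simp only [List.map_cons, List.map_nil, List.cons.injEq, and_true] at hch
  simp only [List.forall_mem_cons] at hlt
  obtain ⟨l59, l45, l42, l37, l46, l20, l30, l13, l36, l56, l26, l12, -⟩ := hlt
  obtain ⟨⟨t13, t30⟩, ⟨z1242, z3037, z3012, z2637⟩, ⟨z5945, z3656, z3429⟩⟩ := genTermsE6
  -- the torus element
  obtain ⟨h, hh⟩ : ∃ h, h = psiE6 K q ((1, 1), (1, g)) := ⟨_, rfl⟩
  have hhP : h ∈ P := by rw [hh, hP]; exact (Subgroup.mem_inf.1 (psiE6_mem hq hK _)).1
  have hhS : h ∈ R.HS := by rw [hh, hR]; exact (Subgroup.mem_inf.1 (psiE6_mem hq hK _)).2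
  have hact : ∀ r (t : K), r < chevE6.nroots → h * xG certE6 K r t * h⁻¹ = xG certE6 K r
      ((g : K) ^ chevE6.cartan 0 r * ((g : K) ^ q) ^ chevE6.cartan 5 r * t) := by
    intro r t hr
    rw [hh, psiE6_apply]
    refine ((chevRel certE6 K).torusHom_conj _ ⟨r, hr⟩ t).trans ?_
    refine congrArg (fun z => xG certE6 K r (z * t)) ?_
    rw [Fin.prod_univ_def, show (List.finRange chevE6.rank).map (fun i : Fin chevE6.rank =>
        tupE6 q ((1 : fixUnits K q) : Kˣ) ((1 : fixUnits K q) : Kˣ) 1 g i ^ chevE6.cartan i r) =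
        (List.range 6).map (fun i => [g, ((1 : fixUnits K q) : Kˣ), 1, ((1 : fixUnits K q) : Kˣ), (1 : Kˣ) ^ q,
          g ^ q].getD i 1 ^ chevE6.cartan i r) by
      rw [← List.map_coe_finRange_eq_range, List.map_map]; rfl]
    simp [List.range_succ, Units.val_zpow_eq_zpow_val]
  -- the classes
  obtain ⟨T0, hT0⟩ : ∃ T0 : K → ↥(chevE6.group K), T0 = fun t =>
      xG certE6 K 59 t * xG certE6 K 45 (-(t ^ q)) := ⟨_, rfl⟩
  obtain ⟨X, hXdef⟩ : ∃ X : K → ↥(chevE6.group K), X = fun t => xG certE6 K 42 t * xG certE6 K 37 (t ^ q) :=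
    ⟨_, rfl⟩
  have hXP : ∀ t, X t ∈ P := fun t => by
    rw [hXdef, hP]; exact wordE6_pair_mem (a := 42) (b := 37) (by decide) t
  have psum : ∀ x y : K, (x + y) ^ q = x ^ q + y ^ q := fun x y => by simp only [← frE6_apply hq hK, map_add]
  have hXadd : ∀ s t, X (s + t) = X s * X t := by
    intro s t
    simp only [hXdef, psum, ← xG_pow_mul]
    exact ((xG_commute certE6 commE6.1.2 t (s ^ q)).symm.mul_mul_mul_comm _ _).symm
  have conj2 : ∀ (m A B : ↥(chevE6.group K)), m * (A * B) * m⁻¹ = (m * A * m⁻¹) * (m * B * m⁻¹) := fun m A B => by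
    group
  have hnT : ∀ t, n * T0 t * n⁻¹ = X t := by
    intro t
    simp only [hT0, hXdef]
    rw [conj2, ← pow_one n, hpow 1 59 _ l59, hpow 1 45 _ l45, a42, a42', a37, a37']
    push_cast
    simp only [one_mul, neg_one_mul, neg_neg]
  obtain ⟨k, hk⟩ : ∃ k : K, k = (g : K) * ((g : K) ^ q)⁻¹ := ⟨_, rfl⟩
  have hkT : ∀ t, h * T0 t * h⁻¹ = T0 (k * t) := by
    intro t
    simp only [hT0]
    rw [conj2, hact 59 _ l59, hact 45 _ l45]
    simp only [hch, zpow_neg, zpow_one, hk, mul_pow, inv_pow, pow_qq hK]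
    rw [mul_neg, mul_comm ((g : K)⁻¹) ((g : K) ^ q)]
  have hX : ∀ t, h * X t * h⁻¹ = X ((g : K)⁻¹ * t) := by
    intro t
    simp only [hXdef]
    rw [conj2, hact 42 _ l42, hact 37 _ l37]
    simp only [hch, zpow_zero, zpow_neg, zpow_one, one_mul, mul_one, mul_pow, inv_pow]
  have g0 : (g : K) ≠ 0 := g.ne_zero
  have h4 : 4 ≤ q ^ 2 := Nat.pow_le_pow_left hq.two_le 2
  have hg1 : (g : K)⁻¹ ≠ 1 := by
    rw [← zpow_neg_one]
    refine TwoGen.zpow_ne_one hg fun hd => ?_
    have := Int.le_of_dvd one_pos (Int.dvd_neg.1 hd)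
    omega
  have hk1 : k ≠ 1 := by
    rw [hk, ← div_eq_mul_inv, ← zpow_natCast (g : K) q]
    nth_rw 1 [← zpow_one (g : K)]
    rw [← zpow_sub₀ g0]
    refine TwoGen.zpow_ne_one hg fun hd => ?_
    have h1 : (2 : ℤ) ≤ q := by exact_mod_cast hq.two_le
    have := Int.le_of_dvd (by omega : (0 : ℤ) < q - 1) (by simpa using Int.dvd_neg.2 hd)
    rw [hK, Nat.cast_sub (by omega : 1 ≤ q ^ 2)] at this
    push_cast at this
    nlinarith
  -- the two generators
  have hnP : n ∈ P := by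
    obtain ⟨⟨⟨s0, s1, s2⟩, ⟨s3, s4, s5⟩⟩, -⟩ := simpleE6
    obtain ⟨⟨c1, c1'⟩, -, ⟨c2, c3⟩, ⟨c2', c3'⟩⟩ := commE6
    obtain ⟨⟨n46, n39, n56⟩, ⟨n36, n42, n37⟩, -⟩ := heDataE6
    rw [hn, hR, hP]
    simp only [Rel.nWord, coxE6, List.map_cons, List.map_nil, List.prod_cons, List.prod_nil, mul_one, s0, s1, s2, s3,
      s4, s5]
    have single : ∀ r r' : ℕ, r ∈ [e6p2, e6m2, e6p4, e6m4] → r' ∈ [e6p2, e6m2, e6p4, e6m4] → chevE6.neg r = r' →
        (chevRel certE6 K).ne r 1 ∈ (twistedE6 K q).subgroupOf (chevE6.group K) := by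
      intro r r' hr hr' e
      show xG certE6 K r 1 * xG certE6 K (chevE6.neg r) (-1⁻¹) * xG certE6 K r 1 ∈ _
      rw [e, inv_one]
      exact mul_mem (mul_mem (wordE6_single_mem hr (one_pow q))
        (wordE6_single_mem hr' (by rw [neg_pow_E6 hq hK, one_pow]))) (wordE6_single_mem hr (one_pow q))
    refine mul_mem (single 46 25 (by decide) (by decide) n46) (mul_mem (single 39 32 (by decide) (by decide) n39) ?_)
    rw [← mul_assoc]
    have h1 := wordE6_pair_mem (K := K) (q := q) (a := 56) (b := 36) (by decide) 1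
    have h2 := wordE6_pair_mem (K := K) (q := q) (a := 15) (b := 35) (by decide) (-1)
    have h3 := wordE6_pair_mem (K := K) (q := q) (a := 42) (b := 37) (by decide) 1
    have h4 := wordE6_pair_mem (K := K) (q := q) (a := 29) (b := 34) (by decide) (-1)
    simp only [neg_pow_E6 hq hK, one_pow] at h1 h2 h3 h4
    refine mul_mem ?_ ?_
    · rw [← ne_pair certE6 c1 c2 c3, n56, n36, inv_one]
      exact mul_mem (mul_mem h1 h2) h1
    · rw [← ne_pair certE6 c1' c2' c3', n42, n37, inv_one]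
      exact mul_mem (mul_mem h3 h4) h3
  have hl : xG certE6 K 46 (1 : K) ∈ P := hP ▸ wordE6_single_mem (by decide) (one_pow q)
  refine TwoGen.exists_two_gen twE6_le (a := h * xG certE6 K 46 1) (b := X 1 * n) (hP ▸ mul_mem hhP hl)
    (hP ▸ mul_mem (hXP 1) hnP) ?_
  obtain ⟨H, hH⟩ : ∃ H : Subgroup ↥(chevE6.group K),
      H = Subgroup.closure {h * xG certE6 K 46 1, X 1 * n} := ⟨_, rfl⟩
  rw [← hH]
  have haH : h * xG certE6 K 46 1 ∈ H := hH ▸ Subgroup.subset_closure (Set.mem_insert _ _)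
  have hbH : X 1 * n ∈ H := hH ▸ Subgroup.subset_closure (Set.mem_insert_of_mem _ (Set.mem_singleton _))
  -- the splitting
  have hcomm : Commute h (xG certE6 K 46 (1 : K)) := by
    have := hact 46 1 l46
    simp only [hch, zpow_zero, one_mul] at this
    exact mul_inv_eq_iff_eq_mul.1 this
  have hM1 : ((Fintype.card K - 1 : ℕ) : K) = -1 := by
    rw [Nat.cast_sub Fintype.card_pos, FiniteField.cast_card_eq_zero, Nat.cast_one, zero_sub]
  have hh1 : h ^ (Fintype.card K - 1) = 1 := by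
    rw [hh, ← map_pow, Prod.pow_mk, Prod.pow_mk, Prod.pow_mk, one_pow, one_pow, ← Fintype.card_units,
      pow_card_eq_one]
    exact map_one _
  have hxpow : ∀ (r N : ℕ), xG certE6 K r (1 : K) ^ N = xG certE6 K r (N : K) := by
    intro r N
    induction N with
    | zero => rw [pow_zero, Nat.cast_zero]; exact ((chevRel certE6 K).xe_zero r).symm
    | succ N ih => rw [pow_succ, ih, xG_pow_mul, Nat.cast_succ]
  have hneg : ∀ (r : ℕ) (t : K), xG certE6 K r (-t) = (xG certE6 K r t)⁻¹ := (chevRel certE6 K).xe_neg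
  have h46 : xG certE6 K 46 (1 : K) ∈ H := by
    have := TwoGen.pow_split hcomm hh1 haH
    rw [hxpow, hM1, hneg, inv_mem_iff] at this
    exact this
  have hhH : h ∈ H := (Subgroup.mul_mem_cancel_right H h46).1 haH
  obtain ⟨hXH, hnH⟩ : (∀ t, X t ∈ H) ∧ n ∈ H := by
    refine TwoGen.seed_mem X hXadd hX (k := k) (fun t => ?_) ?_ ?_ hg1 hk1 hhH hbH
    · rw [← hnT, ← hnT, ← hkT]; group
    · refine R.HS_isMulCommutative hhS ?_
      rw [hn]
      exact R.nWord_HS (fun i hi => coxE6_lt 1 i (by simpa [coxE6pow] using hi)) hhS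
    · intro u hu
      rw [← zpow_neg_one]
      exact TwoGen.exists_pow_zpow hg (by simp) hu
  have cj : ∀ k {x}, x ∈ H → n ^ k * x * (n ^ k)⁻¹ ∈ H := fun k x hx =>
    mul_mem (mul_mem (pow_mem hnH k) hx) (inv_mem (pow_mem hnH k))
  have pn : ∀ x : K, (-x) ^ q = -(x ^ q) := neg_pow_E6 hq hK
  have hneg3 : ∀ t : K, xG certE6 K 29 t * xG certE6 K 34 (t ^ q) ∈ H := by
    intro t
    have := cj 6 (hXH ((-t) ^ q))
    simp only [hXdef] at this
    rw [conj2, hpow 6 42 _ l42, hpow 6 37 _ l37, a34, a34', a29, a29', pow_qq hK] at this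
    push_cast at this
    simp only [neg_one_mul, neg_neg, pn] at this
    rwa [(xG_commute certE6 z3429 _ _).eq] at this
  -- the outer pair
  have h30 : ∀ t : K, xG certE6 K 30 t * xG certE6 K 13 (t ^ q) ∈ H := by
    intro t
    obtain ⟨hA, hB⟩ : X (-t) ∈ H ∧ xG certE6 K 26 1 * xG certE6 K 12 (-1) ∈ H := by
      refine ⟨hXH _, ?_⟩
      have := cj 5 (hXH 1)
      simp only [hXdef] at this
      rw [conj2, hpow 5 42 _ l42, hpow 5 37 _ l37, a26, a26', a12, a12'] at this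
      simpa using this
    simp only [hXdef, pn] at hA
    have e1 := xG_swap_one certE6 t30 (-t) (1 : K)
    have e2 := xG_swap_one certE6 t13 (-(t ^ q)) (-1 : K)
    have c1 : -(((1 : ℤ) : K) * -t * 1) = t := by push_cast; ring
    have c2 : -(((-1 : ℤ) : K) * -(t ^ q) * -1) = t ^ q := by push_cast; ring
    rw [c1] at e1; rw [c2] at e2
    have e : (xG certE6 K 26 1 * xG certE6 K 12 (-1)) * (xG certE6 K 42 (-t) * xG certE6 K 37 (-(t ^ q))) =
        (xG certE6 K 42 (-t) * xG certE6 K 37 (-(t ^ q))) * (xG certE6 K 26 1 * xG certE6 K 12 (-1)) *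
          (xG certE6 K 30 t * xG certE6 K 13 (t ^ q)) := by
      rw [(xG_commute certE6 z1242 _ _).mul_mul_mul_comm, e1, e2]
      simp only [mul_assoc]
      rw [(xG_commute certE6 z3037 _ _).left_comm, (xG_commute certE6 z2637 _ _).left_comm,
        (xG_commute certE6 z3012 _ _).left_comm]
    have := mul_mem hB hA
    rw [e] at this
    exact (Subgroup.mul_mem_cancel_left H (mul_mem hA hB)).1 this
  have hpos6 : ∀ t : K, xG certE6 K 36 t * xG certE6 K 56 (t ^ q) ∈ H := by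
    intro t
    have := cj 4 (h30 t)
    rw [conj2, hpow 4 30 _ l30, hpow 4 13 _ l13, d36, d36', d56, d56'] at this
    simpa using this
  have hneg1 : ∀ t : K, xG certE6 K 15 t * xG certE6 K 35 (t ^ q) ∈ H := by
    intro t
    have := cj 6 (hpos6 (-t))
    rw [conj2, hpow 6 36 _ l36, hpow 6 56 _ l56, d15, d15', d35, d35', pn] at this
    simpa using this
  -- the long roots
  obtain ⟨ν, hν⟩ : ∃ ν : K, ν = (g : K) * (g : K) ^ q := ⟨_, rfl⟩
  have hnorm : ∀ t : K, t ≠ 0 → t ^ q = t → ∃ j : ℕ, t = ν ^ j := by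
    intro t ht htq
    obtain ⟨j, hj⟩ : Units.mk0 t ht ∈ Submonoid.powers g :=
      (isOfFinOrder_of_finite g).mem_powers_iff_mem_zpowers.2 (hg _)
    have hord : orderOf g = q ^ 2 - 1 := by
      rw [orderOf_eq_card_of_forall_mem_zpowers hg, Nat.card_eq_fintype_card, Fintype.card_units, hK]
    have h2 : g ^ (j * (q - 1)) = 1 := by
      rw [pow_mul, show g ^ j = Units.mk0 t ht from hj]
      have h3 : Units.mk0 t ht ^ (q - 1) * Units.mk0 t ht = Units.mk0 t ht := by
        rw [← pow_succ, Nat.sub_add_cancel hq.pos]; exact Units.ext (by simpa using htq)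
      exact mul_eq_right.1 h3
    have h4 := orderOf_dvd_of_pow_eq_one h2
    rw [hord] at h4
    obtain ⟨p, rfl⟩ : ∃ p, q = p + 1 := ⟨q - 1, by have := hq.pos; omega⟩
    have h5 : (p + 1) ^ 2 - 1 = (1 + (p + 1)) * p := Nat.sub_eq_of_eq_add (by ring)
    rw [h5, Nat.add_sub_cancel] at h4
    have hp : 0 < p := by have := hq.one_lt; omega
    obtain ⟨m, rfl⟩ := Nat.dvd_of_mul_dvd_mul_right hp h4
    refine ⟨m, ?_⟩
    have := congrArg Units.val (show g ^ ((1 + (p + 1)) * m) = Units.mk0 t ht from hj)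
    rw [Units.val_pow_eq_pow_val, Units.val_mk0, pow_mul, pow_add, pow_one] at this
    rw [hν, this]
  have h20 : xG certE6 K 20 (1 : K) ∈ H := by
    have e := hpow 1 20 1 l20
    rw [b46, b46', pow_one, Int.cast_one, one_mul] at e
    rw [← e] at h46
    have := mul_mem (mul_mem (inv_mem hnH) h46) hnH
    rwa [show n⁻¹ * (n * xG certE6 K 20 1 * n⁻¹) * n = xG certE6 K 20 1 by group] at this
  have full20 : ∀ t : K, t ^ q = t → xG certE6 K 20 t ∈ H := by
    intro t htq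
    by_cases ht : t = 0
    · rw [ht, show xG certE6 K 20 (0 : K) = 1 from (chevRel certE6 K).xe_zero 20]
      exact one_mem H
    obtain ⟨j, hj⟩ := hnorm t ht htq
    have := TwoGen.scale_mem hhH (fun s => xG certE6 K 20 s) (ν := ν)
      (fun s => by rw [hact 20 _ l20]; simp only [hch, zpow_one, hν]) h20 j
    rwa [mul_one, ← hj] at this
  have hlong : ∀ t : K, t ^ q = t → xG certE6 K 46 t ∈ H ∧ xG certE6 K 39 t ∈ H ∧ xG certE6 K 25 t ∈ H ∧
      xG certE6 K 32 t ∈ H := by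
    intro t htq
    have hm : (-t) ^ q = -t := by rw [pn, htq]
    have e1 := cj 1 (full20 t htq)
    have e2 := cj 2 (full20 t htq)
    have e3 := cj 7 (full20 (-t) hm)
    have e4 := cj 8 (full20 (-t) hm)
    rw [hpow _ 20 _ l20] at e1 e2 e3 e4
    rw [b46, b46'] at e1; rw [b39, b39'] at e2; rw [b25, b25'] at e3; rw [b32, b32'] at e4
    simp only [Int.cast_one, Int.cast_neg, one_mul, neg_one_mul, neg_neg] at e1 e2 e3 e4
    exact ⟨e1, e2, e3, e4⟩
  intro z hz
  rw [twistedE6, genSubgroup_subgroupOf certE6] at hz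
  refine (Subgroup.closure_le _).2 ?_ hz
  rintro _ ⟨w, hw, rfl⟩
  rcases hw with ⟨t, ht, r, hr, rfl⟩ | ⟨t, rs, hrs, rfl⟩
  · simp only [List.mem_cons, List.not_mem_nil, or_false, e6p2, e6m2, e6p4, e6m4] at hr
    simp only [wordG_cons, wordG_nil, mul_one]
    obtain ⟨e1, e2, e3, e4⟩ := hlong t ht
    rcases hr with rfl | rfl | rfl | rfl
    · exact e1
    · exact e3
    · exact e2
    · exact e4
  · simp only [List.mem_cons, List.not_mem_nil, or_false, e6p1, e6p3, e6p5, e6p6, e6m1, e6m3, e6m5, e6m6] at hrs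
    simp only [wordG_cons, wordG_nil, mul_one]
    rcases hrs with rfl | rfl | rfl | rfl
    · have := hpos6 (t ^ q)
      rwa [pow_qq hK, (xG_commute certE6 z3656 _ _).eq] at this
    · exact hneg1 t
    · have := hXH t
      rwa [hXdef] at this
    · exact hneg3 t

end CfsgLib.Lie.Chev.TwGroups
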