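/-
The large Ree groups are generated by two elements.

The pair is `h * x(1, 0)` and `A(1) * n`: here `x` is the positive class of type B2, `h` a torus element centralising
it, `n` the monomial element of a Coxeter element of the twisted Weyl group and `A` the class of the pair.
-/
import Cfsg.Agent.Lib.Lie.Twisted.TwoGen.Basic
import Cfsg.Agent.Lib.Lie.Twisted.F4Perfect

set_option autoImplicit false

namespace CfsgLib.Lie.Chev.TwGroups

open Cfsg.Lie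
open TwoGen (wsign wp)

/-- the Coxeter word -/
def coxF4 : List ℕ := [0, 3, 1, 2, 1, 2]

/-- its powers -/
def coxF4pow (k : ℕ) : List ℕ := (List.replicate k coxF4).flatten

theorem coxF4_lt (k : ℕ) : ∀ i ∈ coxF4pow k, i < chevF4.rank := by
  intro i hi
  obtain ⟨l, hl, hil⟩ := List.mem_flatten.1 hi
  rw [List.eq_of_mem_replicate hl] at hil
  have h : ∀ j ∈ coxF4, j < chevF4.rank := by decide +kernel
  exact h i hil

theorem moveF4 :
    ([(1, 10), (1, 15), (4, 33), (4, 24), (4, 27), (4, 25), (4, 28), (4, 30)].map fun x : ℕ × ℕ =>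
      wp auxF4 (coxF4pow x.1) x.2) = [33, 24, 14, 23, 20, 22, 19, 17] := by decide +kernel

theorem charTG_F4 :
    ([15, 10, 33, 24, 27, 25, 28, 30].map fun r => [chevF4.cartan 0 r, chevF4.cartan 1 r, chevF4.cartan 2 r,
      chevF4.cartan 3 r]) =
    [[2, 0, -1, 0], [0, -1, 0, 1], [2, -1, 0, 0], [0, 0, -1, 2], [-1, 2, -1, 0], [0, -2, 2, -1], [-1, 0, 1, -1],
      [-2, 2, 0, -1]] ∧
    (∀ r ∈ [15, 10, 33, 24, 27, 25, 28, 30], r < chevF4.nroots) := by decide +kernel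

theorem braidF4 :
    (chevF4.neg 25 = 22) ∧ (∀ r ∈ List.range chevF4.nroots, wp auxF4 [1, 2, 1, 2] r = wp auxF4 [2, 1, 2, 1] r) ∧
    (∀ i ∈ [1, 2], i < chevF4.rank) := by decide +kernel

variable {K : Type*} [Field K] [Fintype K] {m : ℕ}

theorem wsign_F4 (hK : Fintype.card K = 2 ^ (2 * m + 1)) (X : Aux) : ∀ (L : List ℕ) (r : ℕ), (wsign X L r : K) = 1
  | [], _ => Int.cast_one
  | i :: L, r => by
    show ((X.eta i (wp X L r) * wsign X L r : ℤ) : K) = 1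
    rw [Int.cast_mul, wsign_F4 hK X L r, mul_one]
    rcases mul_self_eq_one_iff.1 (X.eta_sq_cast (F := K) i (wp X L r)) with h | h
    · exact h
    · rw [h, neg_F4 hK]

omit [Fintype K] in
/-- monomial elements with the same action are equal -/
theorem eq_of_act_F4 {g h : ↥(chevF4.group K)} (hg : g ∈ (chevRel certF4 K).NS) (hh : h ∈ (chevRel certF4 K).NS)
    (e : ∀ r < chevF4.nroots, ∀ t : K, g * xG certF4 K r t * g⁻¹ = h * xG certF4 K r t * h⁻¹) : g = h := by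
  have hd : h⁻¹ * g ∈ (chevRel certF4 K).NS := mul_mem (inv_mem hh) hg
  have hm : (chevRel certF4 K).IsMon (h⁻¹ * g) 1 fun _ => (1 : K) := fun r => ⟨one_ne_zero, inv_one.symm, rfl,
    fun t => by
      show h⁻¹ * g * xG certF4 K r t * (h⁻¹ * g)⁻¹ = xG certF4 K r (1 * t)
      rw [one_mul, show h⁻¹ * g * xG certF4 K r t * (h⁻¹ * g)⁻¹ = h⁻¹ * (g * xG certF4 K r t * g⁻¹) * h by group,
        e r r.2 t]
      group⟩
  have h1 : (chevRel certF4 K).nsPerm ⟨_, hd⟩ = 1 := (chevRel certF4 K).nsPerm_eq hm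
  have hHS : h⁻¹ * g ∈ (chevRel certF4 K).HS :=
    (chevRel certF4 K).nsPerm_eq_one_of_pos ⟨_, hd⟩ fun i => by
      rw [h1, Equiv.Perm.one_apply]; exact (chevRel certF4 K).sroot_pos i
  have := (chevRel certF4 K).θ_eq_one_of_char hHS fun a ha r =>
    congrFun ((chevRel certF4 K).isMon_unique ha hm).2 r
  rw [← map_one (chevRel certF4 K).θ] at this
  exact (inv_mul_eq_one.1 (chevRel_injective certF4 K this)).symm

/-- the torus of the pair in any subgroup containing both pair classes -/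
theorem pair_torus_mem_of (hK : Fintype.card K = 2 ^ (2 * m + 1)) {H : Subgroup ↥(chevF4.group K)}
    (hp : ∀ t : K, xG certF4 K 33 (t ^ 2 ^ m) * xG certF4 K 24 t ∈ H)
    (hn : ∀ t : K, xG certF4 K 14 (t ^ 2 ^ m) * xG certF4 K 23 t ∈ H) (c : K) :
    (chevRel certF4 K).ne 33 (c ^ 2 ^ m) * (chevRel certF4 K).ne 24 c ∈ H := by
  obtain ⟨⟨c1, -, c2, c3⟩, -, -⟩ := commF4
  obtain ⟨-, ⟨n33, n24, -⟩, -⟩ := simpleF4
  rw [← ne_pair certF4 c1 (by rw [n24]; exact c2) (by rw [n33]; exact c3), n33, n24]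
  refine mul_mem (mul_mem (hp c) ?_) (hp c)
  have h := hn (-c⁻¹)
  rwa [neg_F4 hK, inv_pow, ← neg_F4 hK ((c ^ 2 ^ m)⁻¹), ← neg_F4 hK c⁻¹] at h

theorem fixed_HS_F4 (hK : Fintype.card K = 2 ^ (2 * m + 1)) {g : ↥(chevF4.group K)}
    (hg : g ∈ (chevRel certF4 K).HS) (hfix : σF4 hK g = g) : g ∈ (twF4 hK).P1 := by
  suffices h : g ∈ (psiF4 K m).range by
    rw [psiF4_range hK] at h
    exact (Subgroup.mem_inf.1 h).1
  obtain ⟨c, hc⟩ := (chevRel certF4 K).torusHom_surjective ⟨g, hg⟩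
  have hgc : g = (chevRel certF4 K).torusG c := by rw [Rel.torusG_apply, hc]
  have l : ∀ n, n < 4 → n < chevF4.rank := fun n hn => lt_of_lt_of_eq hn lengthF4.symm
  obtain ⟨c0, c1, c2, c3, ec⟩ : ∃ z0 z1 z2 z3, c = tupF4 z0 z1 z2 z3 :=
    ⟨c ⟨0, l 0 (by norm_num)⟩, c ⟨1, l 1 (by norm_num)⟩, c ⟨2, l 2 (by norm_num)⟩, c ⟨3, l 3 (by norm_num)⟩, by
      funext i
      obtain ⟨i, hi⟩ := i
      have hi4 : i < 4 := hi
      interval_cases i <;> rfl⟩
  subst ec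
  have hsign : ∀ i : Fin chevF4.rank, (twAt chevF4 twTF4 (chevF4.simple i)).2 = (1, [2, 2, 1, 1].getD (i : ℕ) 0) := by
    decide +kernel
  have hσ := σ_torusHom certF4 (twFieldF4 hK) twOkF4 shapeF4 (frF4 hK) (σF4 hK) (σF4_gen hK)
    (fun i => congrArg Prod.fst (hsign i)) (tupF4 c0 c1 c2 c3)
    (tupF4 (c3 ^ 2 ^ m) (c2 ^ 2 ^ m) ((c1 ^ 2 ^ m) ^ (2 : ℕ)) ((c0 ^ 2 ^ m) ^ (2 : ℕ))) (by
      intro i j hj
      rw [hsign i, frF4_apply]
      simp only [← Units.val_pow_eq_pow_val]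
      refine congrArg Units.val ?_
      obtain ⟨i, hi⟩ := i
      obtain ⟨j, hj'⟩ := j
      have hi4 : i < 4 := hi
      interval_cases i <;> simp [piF4] at hj <;> subst hj <;> simp [tupF4])
  rw [hgc] at hfix
  have e : tupF4 c0 c1 c2 c3 =
      tupF4 (c3 ^ 2 ^ m) (c2 ^ 2 ^ m) ((c1 ^ 2 ^ m) ^ (2 : ℕ)) ((c0 ^ 2 ^ m) ^ (2 : ℕ)) :=
    torusG_injective_F4 (hfix.symm.trans hσ)
  refine ⟨(c3, c2), ?_⟩
  rw [psiF4_apply, hgc]
  refine congrArg _ ?_
  funext i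
  obtain ⟨i, hi⟩ := i
  have hi4 : i < 4 := hi
  have := congrFun e ⟨i, hi⟩
  interval_cases i <;> simp [tupF4] at this ⊢ <;> exact this.symm

theorem nB2_mem_F4 (hK : Fintype.card K = 2 ^ (2 * m + 1)) : nB2 K ∈ (twF4 hK).P1 := by
  obtain ⟨n25, hbr, hlt⟩ := braidF4
  obtain ⟨⟨s0, s1, s2, s3⟩, ⟨-, -, n27⟩, -⟩ := simpleF4
  obtain ⟨-, ⟨b1, b2, -, -⟩, ⟨c1, c2, -, -⟩⟩ := twAtF4
  obtain ⟨R, hR⟩ : ∃ R : Rel chevF4 auxF4 K ↥(chevF4.group K), R = chevRel certF4 K := ⟨_, rfl⟩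
  have hw : ∀ w : List ℕ, (∀ i ∈ w, i ∈ [1, 2]) → ∀ i ∈ w, i < chevF4.rank := fun w h i hi => hlt i (h i hi)
  have hNS : ∀ w : List ℕ, (∀ i ∈ w, i ∈ [1, 2]) → R.nWord w ∈ R.NS := fun w h => list_prod_mem fun z hz => by
    obtain ⟨i, hi, rfl⟩ := List.mem_map.1 hz
    exact (le_sup_right : R.Nw ≤ R.NS) (R.ne_mem_Nw ⟨i, hw w h i hi⟩)
  have e1 : nB2 K = R.nWord [1, 2, 1, 2] := by
    rw [hR, nB2]; simp only [Rel.nWord, List.map_cons, List.map_nil, List.prod_cons, List.prod_nil, mul_one]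
  have e2 : σF4 hK (nB2 K) = R.nWord [2, 1, 2, 1] := by
    have h0 : -(1 : K)⁻¹ = 1 := by rw [inv_one, neg_F4 hK]
    have a : σF4 hK ((chevRel certF4 K).ne 27 1) = (chevRel certF4 K).ne 25 1 := by
      show σF4 hK (xG certF4 K 27 1 * xG certF4 K (chevF4.neg 27) (-1⁻¹) * xG certF4 K 27 1) =
        xG certF4 K 25 1 * xG certF4 K (chevF4.neg 25) (-1⁻¹) * xG certF4 K 25 1
      rw [map_mul, map_mul, n27, n25, h0, σF4_short hK b1, σF4_short hK c1, one_pow, one_pow]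
    have b : σF4 hK ((chevRel certF4 K).ne 25 1) = (chevRel certF4 K).ne 27 1 := by
      show σF4 hK (xG certF4 K 25 1 * xG certF4 K (chevF4.neg 25) (-1⁻¹) * xG certF4 K 25 1) =
        xG certF4 K 27 1 * xG certF4 K (chevF4.neg 27) (-1⁻¹) * xG certF4 K 27 1
      rw [map_mul, map_mul, n27, n25, h0, σF4_long hK b2, σF4_long hK c2, one_pow]
    rw [hR, nB2, map_mul, map_mul, map_mul, s1, s2, a, b]
    simp only [Rel.nWord, List.map_cons, List.map_nil, List.prod_cons, List.prod_nil, mul_one, s1, s2]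
  have hfix : σF4 hK (nB2 K) = nB2 K := by
    rw [e2, e1, hR]
    refine eq_of_act_F4 (hR ▸ hNS _ (by decide)) (hR ▸ hNS _ (by decide)) fun r hr t => ?_
    refine ((chevRel certF4 K).nWord_conj_sign (hw _ (by decide)) hr t).trans
      (Eq.trans ?_ ((chevRel certF4 K).nWord_conj_sign (hw _ (by decide)) hr t).symm)
    rw [wsign_F4 hK, wsign_F4 hK, hbr r (List.mem_range.2 hr)]
  obtain ⟨h1, h2⟩ : 1 < chevF4.rank ∧ 2 < chevF4.rank := by decide +kernel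
  have hb1 := (chevRel certF4 K).isMon_ne_simple ⟨1, h1⟩ (one_ne_zero (α := K))
  have hb2 := (chevRel certF4 K).isMon_ne_simple ⟨2, h2⟩ (one_ne_zero (α := K))
  have hb := (chevRel certF4 K).isMon_mul hb1 ((chevRel certF4 K).isMon_mul hb2 ((chevRel certF4 K).isMon_mul hb1 hb2))
  have hN : nB2 K ∈ (chevRel certF4 K).NS := by rw [e1, ← hR]; exact hNS _ (by decide)
  have hp : (chevRel certF4 K).nsPerm ⟨nB2 K, hN⟩ = (chevRel certF4 K).nsPerm ((twF4 hK).nJ (1 : Fin 2)) := by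
    rw [(chevRel certF4 K).nsPerm_eq (g := ⟨nB2 K, hN⟩) hb]
    exact (Equiv.ext fun r => Fin.ext (((twF4 hK).nJ_apply (orbListF4 hK) rfl wordsTF4_ok (1 : Fin 2) r).trans rfl)).symm
  have hτ : (((twF4 hK).nJ (1 : Fin 2))⁻¹ * ⟨nB2 K, hN⟩ : (chevRel certF4 K).NS).1 ∈ (chevRel certF4 K).HS :=
    (chevRel certF4 K).nsPerm_eq_one_of_pos _ fun i => by
      rw [map_mul, map_inv, hp, inv_mul_cancel, Equiv.Perm.one_apply]
      exact (chevRel certF4 K).sroot_pos i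
  have hτfix : σF4 hK (((twF4 hK).nJ (1 : Fin 2) : ↥(chevF4.group K))⁻¹ * nB2 K) =
      ((twF4 hK).nJ (1 : Fin 2) : ↥(chevF4.group K))⁻¹ * nB2 K := by
    rw [map_mul, map_inv, hfix]
    exact congrArg (fun z => z⁻¹ * nB2 K) ((twF4 hK).hfix _ ((twF4 hK).nJ_mem _))
  have hτ' : ((twF4 hK).nJ (1 : Fin 2) : ↥(chevF4.group K))⁻¹ * nB2 K ∈ (chevRel certF4 K).HS := hτ
  have := mul_mem ((twF4 hK).nJ_mem (1 : Fin 2)) (fixed_HS_F4 hK hτ' hτfix)
  rwa [mul_inv_cancel_left] at this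

theorem F4_two_gen (hm : 1 ≤ m) (hK : Fintype.card K = 2 ^ (2 * m + 1)) :
    ∃ a b : ↥(twistedF4 K (2 ^ m)), Subgroup.closure ({a, b} : Set ↥(twistedF4 K (2 ^ m))) = ⊤ := by
  classical
  obtain ⟨g, hg⟩ := IsCyclic.exists_generator (α := Kˣ)
  obtain ⟨R, hR⟩ : ∃ R : Rel chevF4 auxF4 K ↥(chevF4.group K), R = chevRel certF4 K := ⟨_, rfl⟩
  have hxe : ∀ r t, R.xe r t = xG certF4 K r t := fun r t => by rw [hR]; rfl
  obtain ⟨P, hP⟩ : ∃ P, P = (twistedF4 K (2 ^ m)).subgroupOf (chevF4.group K) := ⟨_, rfl⟩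
  obtain ⟨n, hn⟩ : ∃ n, n = R.nWord coxF4 := ⟨_, rfl⟩
  have hpow : ∀ k r (t : K), r < chevF4.nroots → n ^ k * xG certF4 K r t * (n ^ k)⁻¹ =
      xG certF4 K (wp auxF4 (coxF4pow k) r) t := by
    intro k r t hr
    rw [← hxe, ← hxe, hn, ← R.nWord_replicate]
    refine (R.nWord_conj_sign (coxF4_lt k) hr t).trans ?_
    rw [wsign_F4 hK, one_mul]
  have mv := moveF4
  simp only [List.map_cons, List.map_nil, List.cons.injEq, and_true] at mv
  obtain ⟨m33, m24, m14, m23, m20, m22, m19, m17⟩ := mv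
  obtain ⟨hch, hlt⟩ := charTG_F4
  simp only [List.map_cons, List.map_nil, List.cons.injEq, and_true] at hch
  simp only [List.forall_mem_cons] at hlt
  obtain ⟨l15, l10, l33, l24, l27, l25, l28, l30, -⟩ := hlt
  obtain ⟨⟨p3324, -, -, -⟩, -, -⟩ := commF4
  -- the torus element
  obtain ⟨x, hx⟩ : ∃ x : Kˣ, x = g ^ 2 * ((g ^ 2 ^ m) ^ 2)⁻¹ := ⟨_, rfl⟩
  obtain ⟨a, ha⟩ : ∃ a : K, a = (g : K) := ⟨_, rfl⟩
  obtain ⟨b, hb⟩ : ∃ b : K, b = a ^ 2 ^ m := ⟨_, rfl⟩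
  have hab : (b ^ 2 ^ m) ^ (2 : ℕ) = a := by rw [hb, pow_twF4 hK]
  have ha0 : a ≠ 0 := ha ▸ g.ne_zero
  have hb0 : b ≠ 0 := hb ▸ pow_ne_zero _ ha0
  have hxv : (x : K) = a ^ 2 * (b ^ 2)⁻¹ := by
    rw [hx, hb, ha]; simp
  have hxθ : (x : K) ^ 2 ^ m = b ^ 2 * a⁻¹ := by
    rw [hxv, mul_pow, inv_pow, pow_right_comm a, pow_right_comm b, ← hb, hab]
  obtain ⟨h, hh⟩ : ∃ h, h = psiF4 K m (x, g) := ⟨_, rfl⟩
  have hhP : h ∈ P := by rw [hh, hP]; exact (Subgroup.mem_inf.1 (psiF4_mem hK _)).1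
  have hhS : h ∈ R.HS := by rw [hh, hR]; exact (Subgroup.mem_inf.1 (psiF4_mem hK _)).2
  have hact : ∀ r (t : K), r < chevF4.nroots → h * xG certF4 K r t * h⁻¹ = xG certF4 K r
      ((b ^ 2 * a⁻¹) ^ chevF4.cartan 0 r * b ^ chevF4.cartan 1 r * a ^ chevF4.cartan 2 r *
        (a ^ 2 * (b ^ 2)⁻¹) ^ chevF4.cartan 3 r * t) := by
    intro r t hr
    rw [hh, psiF4_apply, Rel.torusG_apply]
    refine ((chevRel certF4 K).torusHom_conj _ ⟨r, hr⟩ t).trans ?_
    refine congrArg (fun z => xG certF4 K r (z * t)) ?_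
    rw [Fin.prod_univ_def, show (List.finRange chevF4.rank).map (fun i : Fin chevF4.rank =>
        tupF4 (x ^ 2 ^ m) (g ^ 2 ^ m) g x i ^ chevF4.cartan i r) =
        (List.range 4).map (fun i => [x ^ 2 ^ m, g ^ 2 ^ m, g, x].getD i 1 ^ chevF4.cartan i r) by
      rw [← List.map_coe_finRange_eq_range, List.map_map]; rfl]
    rw [← hxθ, ← hxv, hb, ha]
    simp [List.range_succ, Units.val_zpow_eq_zpow_val, mul_assoc]
  -- the classes
  obtain ⟨T0, hT0⟩ : ∃ T0 : K → ↥(chevF4.group K), T0 = fun t =>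
      xG certF4 K 10 (t ^ 2 ^ m) * xG certF4 K 15 t := ⟨_, rfl⟩
  obtain ⟨X, hXdef⟩ : ∃ X : K → ↥(chevF4.group K), X = fun t => xG certF4 K 33 (t ^ 2 ^ m) * xG certF4 K 24 t :=
    ⟨_, rfl⟩
  have hXP : ∀ t, X t ∈ P := fun t => by
    rw [hXdef, hP]; exact wordF4_pair_mem (a := 33) (b := 24) (by decide) t
  have hXadd : ∀ s t, X (s + t) = X s * X t := by
    intro s t
    simp only [hXdef, add_powF4 hK, ← xG_pow_mul]
    exact ((xG_commute certF4 p3324 _ _).symm.mul_mul_mul_comm _ _).symm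
  have conj2 : ∀ (p A B : ↥(chevF4.group K)), p * (A * B) * p⁻¹ = (p * A * p⁻¹) * (p * B * p⁻¹) := fun p A B => by
    group
  have hnT : ∀ t, n * T0 t * n⁻¹ = X t := by
    intro t
    simp only [hT0, hXdef]
    rw [conj2, ← pow_one n, hpow 1 10 _ l10, hpow 1 15 _ l15, m33, m24]
  obtain ⟨k, hk⟩ : ∃ k : K, k = b ^ 4 * (a ^ 3)⁻¹ := ⟨_, rfl⟩
  obtain ⟨c, hc⟩ : ∃ c : K, c = a ^ 3 * (b ^ 4)⁻¹ := ⟨_, rfl⟩
  have hkθ : k ^ 2 ^ m = a ^ 2 * (b ^ 3)⁻¹ := by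
    rw [hk, mul_pow, inv_pow, pow_right_comm b, pow_right_comm a, ← hb, show (4 : ℕ) = 2 * 2 from rfl, pow_mul, hab]
  have hcθ : c ^ 2 ^ m = b ^ 3 * (a ^ 2)⁻¹ := by
    rw [hc, mul_pow, inv_pow, pow_right_comm b, pow_right_comm a, ← hb, show (4 : ℕ) = 2 * 2 from rfl, pow_mul, hab]
  have hkT : ∀ t, h * T0 t * h⁻¹ = T0 (k * t) := by
    intro t
    simp only [hT0]
    rw [conj2, hact 10 _ l10, hact 15 _ l15, mul_pow k, hkθ, hk]
    simp only [hch, zpow_zero, zpow_neg, zpow_one, zpow_ofNat, one_mul, mul_one]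
    congr 2 <;> field_simp
  have hX : ∀ t, h * X t * h⁻¹ = X (c * t) := by
    intro t
    simp only [hXdef]
    rw [conj2, hact 33 _ l33, hact 24 _ l24, mul_pow c, hcθ, hc]
    simp only [hch, zpow_zero, zpow_neg, zpow_one, zpow_ofNat, one_mul, mul_one]
    congr 2 <;> field_simp
  have hcz : c = (g : K) ^ ((3 : ℤ) - 4 * (2 ^ m : ℕ)) := by
    rw [hc, hb, ha, zpow_sub₀ g.ne_zero, show (4 : ℤ) * (2 ^ m : ℕ) = ((2 ^ m * 4 : ℕ) : ℤ) by push_cast; ring,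
      zpow_natCast, pow_mul, div_eq_mul_inv]
    norm_cast
  have hN : ((Fintype.card K - 1 : ℕ) : ℤ) = 2 * ((2 ^ m : ℕ) : ℤ) * (2 ^ m : ℕ) - 1 := by
    rw [hK, Nat.cast_sub Nat.one_le_two_pow]; push_cast; ring
  have he : Int.gcd ((3 : ℤ) - 4 * (2 ^ m : ℕ)) (Fintype.card K - 1 : ℕ) = 1 := by
    rw [hN, ← Int.isCoprime_iff_gcd_eq_one]
    exact ⟨4 * (2 ^ m : ℕ) + 3, 8, by ring⟩
  have hc1 : c ≠ 1 := by
    rw [hcz]
    refine TwoGen.zpow_ne_one hg fun hd => ?_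
    have := Int.dvd_coe_gcd hd (dvd_refl _)
    rw [he] at this
    have h2 := Nat.le_of_dvd one_pos (Int.natCast_dvd_natCast.1 this)
    have h8 : 2 ^ 3 ≤ 2 ^ (2 * m + 1) := Nat.pow_le_pow_right two_pos (by omega)
    omega
  have hk1 : k ≠ 1 := by
    intro hk1
    refine hc1 (inv_eq_one.1 ?_)
    rw [hc, mul_inv_rev, inv_inv, ← hk, hk1]
  -- the two generators
  obtain ⟨l, hl⟩ : ∃ l, l = xB2 m 27 25 28 30 (1 : K) 0 := ⟨_, rfl⟩
  have hlP : l ∈ P := by rw [hl, hP]; exact wordF4_quad_mem hK (by decide) 1 0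
  have hnP : n ∈ P := by
    obtain ⟨⟨s0, s1, s2, s3⟩, -, -⟩ := simpleF4
    rw [hn, hR, hP]
    simp only [Rel.nWord, coxF4, List.map_cons, List.map_nil, List.prod_cons, List.prod_nil, mul_one]
    rw [s0, s3, ← mul_assoc]
    refine mul_mem ?_ (nB2_mem_F4 hK)
    have := pair_torus_mem_of hK (H := (twistedF4 K (2 ^ m)).subgroupOf (chevF4.group K))
      (fun t => wordF4_pair_mem (by decide) t) (fun t => wordF4_pair_mem (by decide) t) 1
    rwa [one_pow] at this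
  refine TwoGen.exists_two_gen twF4_le (a := h * l) (b := X 1 * n) (hP ▸ mul_mem hhP hlP)
    (hP ▸ mul_mem (hXP 1) hnP) ?_
  obtain ⟨H, hH⟩ : ∃ H : Subgroup ↥(chevF4.group K), H = Subgroup.closure {h * l, X 1 * n} := ⟨_, rfl⟩
  rw [← hH]
  have haH : h * l ∈ H := hH ▸ Subgroup.subset_closure (Set.mem_insert _ _)
  have hbH : X 1 * n ∈ H := hH ▸ Subgroup.subset_closure (Set.mem_insert_of_mem _ (Set.mem_singleton _))
  -- the splitting
  have hcomm : Commute h l := by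
    have hc0 : ∀ r ∈ [27, 25, 28, 30], ∀ t : K, Commute h (xG certF4 K r t) := by
      intro r hr t
      simp only [List.mem_cons, List.not_mem_nil, or_false] at hr
      refine mul_inv_eq_iff_eq_mul.1 ?_
      rcases hr with rfl | rfl | rfl | rfl <;>
        rw [hact _ _ (by assumption)] <;>
        refine congrArg _ ((congrArg (· * t) ?_).trans (one_mul t)) <;>
        simp only [hch, zpow_zero, zpow_neg, zpow_one, zpow_ofNat, one_mul, mul_one] <;>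
        field_simp
    rw [hl]
    exact (hc0 27 (by decide) _).mul_right ((hc0 25 (by decide) _).mul_right
      ((hc0 28 (by decide) _).mul_right (hc0 30 (by decide) _)))
  have hh1 : h ^ (Fintype.card K - 1) = 1 := by
    rw [hh, ← map_pow, Prod.pow_mk, ← Fintype.card_units, pow_card_eq_one, pow_card_eq_one]
    exact map_one _
  have hz : xB2 m 27 25 28 30 (0 : K) 0 = 1 := by
    have h0 : ∀ r, xG certF4 K r (0 : K) = 1 := (chevRel certF4 K).xe_zero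
    simp [xB2, zero_pow (Nat.two_pow_pos m).ne', h0]
  have hl4 : l ^ 4 = 1 := by
    rw [show (4 : ℕ) = 2 * 2 from rfl, pow_mul, sq l, sq, hl, xB2_mul hK, xB2_mul hK, add_self_F4 hK, ← hz]
    simp [zero_pow (Nat.two_pow_pos m).ne', add_self_F4 hK]
  have hlH : l ∈ H := by
    have := TwoGen.pow_split hcomm hh1 haH
    obtain ⟨j, hj⟩ : ∃ j, Fintype.card K - 1 = 4 * j + 3 := by
      obtain ⟨i, rfl⟩ : ∃ i, m = i + 1 := ⟨m - 1, by omega⟩
      refine ⟨2 ^ (2 * i + 1) - 1, ?_⟩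
      rw [hK, show 2 * (i + 1) + 1 = (2 * i + 1) + 2 by omega, pow_add]
      have := Nat.one_le_two_pow (n := 2 * i + 1)
      omega
    rw [hj, pow_add, pow_mul, hl4, one_pow, one_mul] at this
    have h2 : l * l ^ 3 = 1 := by rw [← pow_succ', hl4]
    rw [eq_inv_of_mul_eq_one_left h2]
    exact inv_mem this
  have hhH : h ∈ H := (Subgroup.mul_mem_cancel_right H hlH).1 haH
  obtain ⟨hXH, hnH⟩ : (∀ t, X t ∈ H) ∧ n ∈ H := by
    refine TwoGen.seed_mem X hXadd hX (k := k) (fun t => ?_) ?_ ?_ hc1 hk1 hhH hbH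
    · rw [← hnT, ← hnT, ← hkT]; group
    · refine R.HS_isMulCommutative hhS ?_
      rw [hn]
      exact R.nWord_HS (fun i hi => coxF4_lt 1 i (by simpa [coxF4pow] using hi)) hhS
    · intro u hu
      rw [hcz]
      exact TwoGen.exists_pow_zpow hg he hu
  have cj : ∀ k {y}, y ∈ H → n ^ k * y * (n ^ k)⁻¹ ∈ H := fun k y hy =>
    mul_mem (mul_mem (pow_mem hnH k) hy) (inv_mem (pow_mem hnH k))
  have hpp : ∀ t : K, xG certF4 K 33 (t ^ 2 ^ m) * xG certF4 K 24 t ∈ H := fun t => by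
    have := hXH t; rwa [hXdef] at this
  have hnn : ∀ t : K, xG certF4 K 14 (t ^ 2 ^ m) * xG certF4 K 23 t ∈ H := fun t => by
    have := cj 4 (hpp t)
    rwa [conj2, hpow 4 33 _ l33, hpow 4 24 _ l24, m14, m23] at this
  have htor : ∀ s : K, (chevRel certF4 K).he 33 (s ^ 2 ^ m) * (chevRel certF4 K).he 24 s ∈ H := by
    intro s
    obtain ⟨⟨c1, c4, c2, c3⟩, -, -⟩ := commF4
    obtain ⟨-, ⟨n33, n24, -⟩, -⟩ := simpleF4
    rw [← he_pair certF4 c1 (by rw [n24]; exact c2) (by rw [n33]; exact c3) (by rw [n33, n24]; exact c4)]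
    refine mul_mem (pair_torus_mem_of hK hpp hnn s) ?_
    have := pair_torus_mem_of hK hpp hnn (-1)
    rwa [neg_F4 hK, one_pow, ← neg_F4 hK 1] at this
  have ht0 : ∀ t : K, xB2 m 27 25 28 30 t 0 ∈ H := by
    intro t
    by_cases ht : t = 0
    · rw [ht, hz]; exact one_mem H
    have := mul_mem (mul_mem (htor t⁻¹) hlH) (inv_mem (htor t⁻¹))
    rw [hl, quad_torus_class hK _ (inv_ne_zero ht), inv_inv, mul_one, mul_zero] at this
    exact this
  have h0u : ∀ u : K, xB2 m 27 25 28 30 0 u ∈ H := by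
    intro u
    by_cases hu : u = 0
    · rw [hu, hz]; exact one_mem H
    obtain ⟨i, hi⟩ : ∃ i, 2 ^ m = i + 1 := ⟨2 ^ m - 1, by have := Nat.two_pow_pos m; omega⟩
    have hs : (u ^ (2 * i))⁻¹ * ((u ^ (2 * i))⁻¹) ^ 2 ^ m = u := by
      rw [mul_comm, ← pow_succ, inv_pow, ← pow_mul]
      refine inv_eq_of_mul_eq_one_right ?_
      rw [← pow_succ]
      rw [show 2 * i * (2 ^ m + 1) + 1 = Fintype.card K - 1 by
        rw [hK, show (2 : ℕ) ^ (2 * m + 1) = 2 ^ m * 2 ^ m * 2 by ring, hi]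
        symm
        refine Nat.sub_eq_of_eq_add ?_
        ring]
      exact FiniteField.pow_card_sub_one_eq_one u hu
    have := mul_mem (ht0 (u ^ (2 * i))⁻¹) (ht0 (u ^ (2 * i))⁻¹)
    rwa [xB2_mul hK, add_self_F4 hK, zero_add, zero_add, hs] at this
  have hq : ∀ t u : K, xB2 m 27 25 28 30 t u ∈ H := by
    intro t u
    have := mul_mem (ht0 t) (h0u u)
    rwa [xB2_mul hK, add_zero, zero_add, zero_mul, add_zero] at this
  have hq' : ∀ t u : K, xB2 m 20 22 19 17 t u ∈ H := by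
    intro t u
    have := cj 4 (hq t u)
    simp only [xB2] at this
    rw [conj2, conj2, conj2, hpow 4 27 _ l27, hpow 4 25 _ l25, hpow 4 28 _ l28, hpow 4 30 _ l30, m20, m22, m19, m17]
      at this
    exact this
  intro z hz'
  rw [twistedF4, genSubgroup_subgroupOf certF4] at hz'
  refine (Subgroup.closure_le _).2 ?_ hz'
  rintro _ ⟨w, hw, rfl⟩
  rcases hw with ⟨t, rfl | rfl⟩ | ⟨t, u, rfl | rfl⟩
  · simp only [f4PairWord, wordG_cons, wordG_nil, mul_one]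
    exact hpp t
  · simp only [f4PairWord, wordG_cons, wordG_nil, mul_one]
    exact hnn t
  · have := hq t u
    simp only [b2ClassWord, wordG_cons, wordG_nil, mul_one, f4a, f4b, f4ab, f4aab]
    rw [pow_succ, mul_comm 2 (2 ^ m), pow_mul]
    exact this
  · have := hq' t u
    simp only [b2ClassWord, wordG_cons, wordG_nil, mul_one, f4ma, f4mb, f4mab, f4maab]
    rw [pow_succ, mul_comm 2 (2 ^ m), pow_mul]
    exact this

end CfsgLib.Lie.Chev.TwGroups
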